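import Groth.Agent.Hensel.K98.CloSplit

/-!
# Rigidity of clopen subsets over henselian pairs: `A → B` with `A/I^n ≅ B/I^n B`

* `exists_split`, `eq_empty`: the two halves in terms of subsets of prime spectra.
* `bijective_clopens`: for `(A, I)` henselian, `I` finitely generated, `IB` in the Jacobson radical of `B`,
  `A/I^n ≅ B/I^nB`, and `U ⊆ Spec A` quasi-compact open containing `Spec A ∖ V(I)`: the clopen subsets of `U`
  correspond to the clopen subsets of the preimage of `U` in `Spec B`.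
-/

set_option autoImplicit false
universe u

open AlgebraicGeometry CategoryTheory MvPolynomial TopologicalSpace

namespace Groth.Agent.Hensel.K98.CloRigid

open ProjPt PairAlg Special CloSplit

variable {A B : Type u} [CommRing A] [CommRing B] [Algebra A B] (I : Ideal A)

theorem exists_split (hI : I.FG)
    [HenselianRing A I] (hIB : I.map (algebraMap A B) ≤ (⊥ : Ideal B).jacobson)
    (hq : ∀ n : ℕ, Function.Bijective
      (Ideal.quotientMap (Ideal.map (algebraMap A B) (I ^ n)) (algebraMap A B) Ideal.le_comap_map))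
    (U : Set (PrimeSpectrum A)) (hU : IsOpen U) (hUc : IsCompact U)
    (hUI : ∀ p : PrimeSpectrum A, p ∉ U → I ≤ p.asIdeal)
    (O₁ O₂ : Set (PrimeSpectrum B)) (h₁ : IsOpen O₁) (h₂ : IsOpen O₂) (hd : Disjoint O₁ O₂)
    (hu : O₁ ∪ O₂ = PrimeSpectrum.comap (algebraMap A B) ⁻¹' U) :
    ∃ V₁ V₂ : Set (PrimeSpectrum A), IsOpen V₁ ∧ IsOpen V₂ ∧ Disjoint V₁ V₂ ∧ V₁ ∪ V₂ = U ∧
      PrimeSpectrum.comap (algebraMap A B) ⁻¹' V₁ = O₁ ∧
      PrimeSpectrum.comap (algebraMap A B) ⁻¹' V₂ = O₂ := by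
  let f := algebraMap A B
  have hUc' : IsCompact (PrimeSpectrum.comap f ⁻¹' U) := by
    classical
    obtain ⟨t, ht⟩ := (PrimeSpectrum.isCompact_isOpen_iff (s := U)).1 ⟨hUc, hU⟩
    rw [← ht, Set.preimage_compl, PrimeSpectrum.preimage_comap_zeroLocus]
    exact ((PrimeSpectrum.isCompact_isOpen_iff (s := _)).2 ⟨t.image f, by simp⟩).1
  obtain ⟨s, t, a, b, ha, hb, hab⟩ := exists_families O₁ O₂ h₁ h₂ hd (hu ▸ hUc')
  let cB : s ⊕ t → B := Sum.elim a b
  have hcB : ∀ p' : PrimeSpectrum B, PrimeSpectrum.comap f p' ∈ U ↔ ∃ l, cB l ∉ p'.asIdeal := by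
    intro p'
    have h3 : p' ∈ O₁ ∪ O₂ ↔ PrimeSpectrum.comap f p' ∈ U := by rw [hu]; rfl
    rw [← h3, Set.mem_union, ha, hb]
    constructor
    · rintro (⟨j, hj⟩ | ⟨i, hi⟩)
      · exact ⟨Sum.inr j, hj⟩
      · exact ⟨Sum.inl i, hi⟩
    · rintro ⟨i | j, h⟩
      · exact Or.inr ⟨i, h⟩
      · exact Or.inl ⟨j, h⟩
  have hrad : I.map f ≤ (Ideal.span (Set.range cB)).radical := by
    rw [Ideal.radical_eq_sInf]
    refine le_sInf fun p hp => ?_
    have := hp.2
    by_contra hIp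
    have hmem : PrimeSpectrum.comap f ⟨p, hp.2⟩ ∈ U := by
      by_contra hmem
      exact hIp (Ideal.map_le_iff_le_comap.2 (hUI _ hmem))
    obtain ⟨l, hl⟩ := (hcB _).1 hmem
    exact hl (hp.1 (Ideal.subset_span ⟨l, rfl⟩))
  obtain ⟨k, hk⟩ := Ideal.exists_pow_le_of_le_radical_of_fg hrad (hI.map f)
  let n := 2 * k + 1
  choose c hc using fun l => exists_sub_mem f (I ^ n) (hq n) (cB l)
  let 𝔠 := Ideal.span (Set.range c)
  have hnk : I ^ n ≤ I * I ^ k := by
    rw [← pow_succ']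
    exact Ideal.pow_le_pow_right (by omega)
  have hk' : I ^ k ≤ 𝔠 := by
    refine Submodule.le_of_le_smul_of_le_jacobson_bot (I := I) hI.pow HenselianRing.jac ?_
    have h1 : (I ^ k).map f ≤ (𝔠 ⊔ I ^ n).map f := by
      rw [Ideal.map_pow]
      refine hk.trans ?_
      rw [Ideal.span_le]
      rintro _ ⟨l, rfl⟩
      have h2 : cB l = f (c l) - (f (c l) - cB l) := by ring
      rw [SetLike.mem_coe, h2, Ideal.map_sup]
      exact Ideal.sub_mem _
        (Ideal.mem_sup_left (Ideal.mem_map_of_mem _ (Ideal.subset_span ⟨l, rfl⟩)))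
        (Ideal.mem_sup_right (hc l))
    exact ((Ideal.map_le_iff_le_comap.1 h1).trans (comap_sup_le f (I ^ n) (hq n) 𝔠)).trans
      (sup_le_sup_left hnk _)
  have hn𝔠 : I ^ n ≤ I * 𝔠 ^ 2 := by
    have h1 : I ^ n = I * (I ^ k) ^ 2 := by
      rw [← pow_mul, ← pow_succ']
      congr 1
      ring
    rw [h1]
    exact Ideal.mul_mono_right (Ideal.pow_right_mono hk' 2)
  have hab' : ∀ i j, c (Sum.inl i) * c (Sum.inr j) ∈ I * 𝔠 ^ 2 := by
    intro i j
    refine hn𝔠 (mem_of_map_mem f (I ^ n) (hq n) ?_)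
    have h1 : f (c (Sum.inl i) * c (Sum.inr j)) =
        f (c (Sum.inl i)) * (f (c (Sum.inr j)) - cB (Sum.inr j)) +
          (f (c (Sum.inl i)) - cB (Sum.inl i)) * cB (Sum.inr j) := by
      have h2 : cB (Sum.inl i) * cB (Sum.inr j) = 0 := hab i j
      rw [map_mul]
      linear_combination h2
    rw [h1]
    exact Ideal.add_mem _ (Ideal.mul_mem_left _ _ (hc _)) (Ideal.mul_mem_right _ _ (hc _))
  obtain ⟨V₁, V₂, hV₁, hV₂, hV, hVU, H₁, H₂⟩ := exists_split_family I c hab'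
  have hn1 : I ^ n ≤ I := Ideal.pow_le_self (by omega)
  have hcl : ∀ (p' : PrimeSpectrum B) (_ : I.map f ≤ p'.asIdeal) (l : s ⊕ t),
      c l ∈ (PrimeSpectrum.comap f p').asIdeal ↔ cB l ∈ p'.asIdeal := by
    intro p' hp' l
    have h1 : f (c l) - cB l ∈ p'.asIdeal := hp' (Ideal.map_mono hn1 (hc l))
    constructor
    · intro h
      have h2 : cB l = f (c l) - (f (c l) - cB l) := by ring
      rw [h2]
      exact Ideal.sub_mem _ h h1
    · intro h
      have h2 : f (c l) = (f (c l) - cB l) + cB l := by ring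
      change f (c l) ∈ p'.asIdeal
      rw [h2]
      exact Ideal.add_mem _ h1 h
  have hq1 : Function.Bijective (Ideal.quotientMap (Ideal.map f I) f Ideal.le_comap_map) := by
    have h1 := hq 1
    have h2 : ∀ (J : Ideal A) (_ : J = I ^ 1), Function.Bijective
      (Ideal.quotientMap (Ideal.map f J) f Ideal.le_comap_map) := by
      rintro J rfl
      exact h1
    exact h2 I (pow_one I).symm
  have hUc : ∀ p : PrimeSpectrum A, p ∈ U ↔ ∃ l, c l ∉ p.asIdeal := by
    intro p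
    constructor
    · intro hp
      by_contra hcon
      push Not at hcon
      have h𝔠 : 𝔠 ≤ p.asIdeal := by
        rw [Ideal.span_le]
        rintro _ ⟨l, rfl⟩
        exact hcon l
      have hIp : I ≤ p.asIdeal := p.2.le_of_pow_le (hk'.trans h𝔠)
      obtain ⟨p', hp', rfl⟩ := exists_comap_eq f I hq1 p hIp
      obtain ⟨l, hl⟩ := (hcB p').1 hp
      exact hl ((hcl p' hp' l).1 (hcon l))
    · rintro ⟨l, hl⟩
      by_contra hp
      obtain ⟨p', hp', rfl⟩ := exists_comap_eq f I hq1 p (hUI p hp)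
      have h1 : cB l ∉ p'.asIdeal := fun h => hl ((hcl p' hp' l).2 h)
      exact hp ((hcB p').2 ⟨l, h1⟩)
  have hVU' : V₁ ∪ V₂ = U := Set.ext fun p => (hVU p).trans (hUc p).symm
  have herr : ∀ (p' : PrimeSpectrum B) (l : s ⊕ t), cB l ∈ p'.asIdeal →
      ∃ y ∈ p'.asIdeal, algebraMap A B (c l) - y ∈
        I.map (algebraMap A B) * (Ideal.span (Set.range c)).map (algebraMap A B) := by
    intro p' l hl
    refine ⟨cB l, hl, ?_⟩
    rw [← Ideal.map_mul]
    refine Ideal.map_mono (hn𝔠.trans (Ideal.mul_mono_right ?_)) (hc l)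
    exact Ideal.pow_le_self two_ne_zero
  have hO₁ : ∀ p' ∈ O₁, PrimeSpectrum.comap f p' ∈ V₁ := by
    intro p' hp'
    have hmem : PrimeSpectrum.comap f p' ∈ U := by
      have : p' ∈ O₁ ∪ O₂ := Or.inl hp'
      rw [hu] at this
      exact this
    have hex := (hUc _).1 hmem
    obtain ⟨q, hq0, hqI, hqX⟩ := exists_specialization I hIB c p' hex
    refine H₁ _ hex q hq0 hqI fun i => hqX _ (herr p' _ ?_)
    obtain ⟨j, hj⟩ := (hb p').1 hp'
    have h3 : a i * b j ∈ p'.asIdeal := by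
      rw [hab]
      exact Ideal.zero_mem _
    exact (p'.2.mem_or_mem h3).resolve_right hj
  have hO₂ : ∀ p' ∈ O₂, PrimeSpectrum.comap f p' ∈ V₂ := by
    intro p' hp'
    have hmem : PrimeSpectrum.comap f p' ∈ U := by
      have : p' ∈ O₁ ∪ O₂ := Or.inr hp'
      rw [hu] at this
      exact this
    have hex := (hUc _).1 hmem
    obtain ⟨q, hq0, hqI, hqX⟩ := exists_specialization I hIB c p' hex
    refine H₂ _ hex q hq0 hqI fun j => hqX _ (herr p' _ ?_)
    obtain ⟨i, hi⟩ := (ha p').1 hp'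
    have h3 : a i * b j ∈ p'.asIdeal := by
      rw [hab]
      exact Ideal.zero_mem _
    exact (p'.2.mem_or_mem h3).resolve_left hi
  refine ⟨V₁, V₂, hV₁, hV₂, hV, hVU', ?_, ?_⟩
  · refine Set.Subset.antisymm (fun p' hp' => ?_) hO₁
    have h3 : p' ∈ O₁ ∪ O₂ := by
      rw [hu]
      change PrimeSpectrum.comap f p' ∈ U
      rw [← hVU']
      exact Or.inl hp'
    exact h3.resolve_right fun h4 => Set.disjoint_left.1 hV hp' (hO₂ p' h4)
  · refine Set.Subset.antisymm (fun p' hp' => ?_) hO₂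
    have h3 : p' ∈ O₁ ∪ O₂ := by
      rw [hu]
      change PrimeSpectrum.comap f p' ∈ U
      rw [← hVU']
      exact Or.inr hp'
    exact h3.resolve_left fun h4 => Set.disjoint_left.1 hV (hO₁ p' h4) hp'

/-- A relatively closed subset of `U` with empty preimage in `Spec B` is empty. -/
theorem eq_empty (hI : I.FG) (hIA : I ≤ (⊥ : Ideal A).jacobson)
    (hq : ∀ n : ℕ, Function.Bijective
      (Ideal.quotientMap (Ideal.map (algebraMap A B) (I ^ n)) (algebraMap A B) Ideal.le_comap_map))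
    (U Z : Set (PrimeSpectrum A)) (hZ : IsClosed Z)
    (hUI : ∀ p : PrimeSpectrum A, p ∉ U → I ≤ p.asIdeal)
    (h0 : PrimeSpectrum.comap (algebraMap A B) ⁻¹' (U ∩ Z) = ∅) : U ∩ Z = ∅ := by
  let f := algebraMap A B
  have hq1 : Function.Bijective (Ideal.quotientMap (Ideal.map f I) f Ideal.le_comap_map) := by
    have h1 := hq 1
    have h2 : ∀ (J : Ideal A) (_ : J = I ^ 1), Function.Bijective
      (Ideal.quotientMap (Ideal.map f J) f Ideal.le_comap_map) := by
      rintro J rfl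
      exact h1
    exact h2 I (pow_one I).symm
  have hnot : ∀ p' : PrimeSpectrum B, PrimeSpectrum.comap f p' ∉ U ∩ Z := by
    intro p' hp'
    have : p' ∈ PrimeSpectrum.comap (algebraMap A B) ⁻¹' (U ∩ Z) := hp'
    rw [h0] at this
    exact this
  have hVI : ∀ p ∈ U ∩ Z, ¬ I ≤ p.asIdeal := by
    intro p hp hIp
    obtain ⟨p', -, rfl⟩ := exists_comap_eq f I hq1 p hIp
    exact hnot p' hp
  let 𝔷 : Ideal A := PrimeSpectrum.vanishingIdeal (U ∩ Z)
  have hrad : I.map f ≤ (𝔷.map f).radical := by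
    rw [Ideal.radical_eq_sInf]
    refine le_sInf fun p hp => ?_
    have hpr := hp.2
    have h1 : 𝔷 ≤ (PrimeSpectrum.comap f ⟨p, hp.2⟩).asIdeal := Ideal.map_le_iff_le_comap.1 hp.1
    have h2 : PrimeSpectrum.comap f ⟨p, hp.2⟩ ∈ Z := by
      have h3 : PrimeSpectrum.comap f ⟨p, hp.2⟩ ∈ PrimeSpectrum.zeroLocus (𝔷 : Set A) := h1
      rw [PrimeSpectrum.zeroLocus_vanishingIdeal_eq_closure] at h3
      exact closure_minimal Set.inter_subset_right hZ h3
    have h4 : PrimeSpectrum.comap f ⟨p, hp.2⟩ ∉ U := fun h => hnot _ ⟨h, h2⟩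
    exact Ideal.map_le_iff_le_comap.2 (hUI _ h4)
  obtain ⟨m, hm⟩ := Ideal.exists_pow_le_of_le_radical_of_fg hrad (hI.map f)
  have hm' : I ^ m ≤ 𝔷 := by
    refine Submodule.le_of_le_smul_of_le_jacobson_bot (I := I) hI.pow hIA ?_
    have h1 : (I ^ m).map f ≤ (𝔷 ⊔ I ^ (m + 1)).map f := by
      rw [Ideal.map_pow, Ideal.map_sup]
      exact hm.trans le_sup_left
    refine ((Ideal.map_le_iff_le_comap.1 h1).trans
      (comap_sup_le f (I ^ (m + 1)) (hq (m + 1)) 𝔷)).trans (sup_le_sup_left ?_ _)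
    rw [pow_succ']
    exact le_rfl
  rw [Set.eq_empty_iff_forall_notMem]
  intro p hp
  refine hVI p hp (p.2.le_of_pow_le (hm'.trans ?_))
  intro x hx
  exact (PrimeSpectrum.mem_vanishingIdeal _ _).1 hx p hp

/-- Rigidity of clopen subsets. -/
theorem bijective_clopens (hI : I.FG)
    [HenselianRing A I] (hIB : I.map (algebraMap A B) ≤ (⊥ : Ideal B).jacobson)
    (hq : ∀ n : ℕ, Function.Bijective
      (Ideal.quotientMap (Ideal.map (algebraMap A B) (I ^ n)) (algebraMap A B) Ideal.le_comap_map))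
    (U : (Spec (CommRingCat.of A)).Opens) (hU : IsCompact (U : Set (Spec (CommRingCat.of A))))
    (hUI : ∀ x : Spec (CommRingCat.of A), x ∉ U → I ≤ x.asIdeal) :
    Function.Bijective (fun V : {V : Set ↥U // IsClopen V} =>
      (⟨((Spec.map (CommRingCat.ofHom (algebraMap A B))) ∣_ U).base.hom ⁻¹' V.1,
        V.2.preimage ((Spec.map (CommRingCat.ofHom (algebraMap A B))) ∣_ U).base.hom.continuous⟩ :
        {V' : Set ↥((Spec.map (CommRingCat.ofHom (algebraMap A B))) ⁻¹ᵁ U) // IsClopen V'})) := by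
  let g := Spec.map (CommRingCat.ofHom (algebraMap A B))
  let US : Set (PrimeSpectrum A) := U.carrier
  let vA : ↥U → PrimeSpectrum A := fun x => x.1
  let vB : ↥(g ⁻¹ᵁ U) → PrimeSpectrum B := fun x => x.1
  have hvA : Topology.IsOpenEmbedding vA := U.isOpenEmbedding'
  have hvB : Topology.IsOpenEmbedding vB := (g ⁻¹ᵁ U).isOpenEmbedding'
  have hUS : ∀ x : ↥U, vA x ∈ US := fun x => x.2
  have hval : ∀ x : ↥(g ⁻¹ᵁ U), vA ((g ∣_ U).base.hom x) =
      PrimeSpectrum.comap (algebraMap A B) (vB x) := fun x => morphismRestrict_base_coe g U x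
  have hUI' : ∀ p : PrimeSpectrum A, p ∉ US → I ≤ p.asIdeal := hUI
  constructor
  · have key : ∀ V V' : Set ↥U, IsClopen V → IsClopen V' →
        (g ∣_ U).base.hom ⁻¹' V = (g ∣_ U).base.hom ⁻¹' V' → V ⊆ V' := by
      intro V V' hV hV' he x hxV
      by_contra hxV'
      obtain ⟨Z, hZ, hZV⟩ : ∃ Z : Set (PrimeSpectrum A), IsClosed Z ∧ vA ⁻¹' Z = V ∩ V'ᶜ :=
        isClosed_induced_iff.1 (hV.1.inter hV'.compl.1)
      have h0 := eq_empty I hI HenselianRing.jac hq US Z hZ hUI' (by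
        rw [Set.eq_empty_iff_forall_notMem]
        rintro p' ⟨hp'U, hp'Z⟩
        let y : ↥(g ⁻¹ᵁ U) := ⟨p', hp'U⟩
        have h1 : (g ∣_ U).base.hom y ∈ V ∩ V'ᶜ := by
          rw [← hZV]
          change vA ((g ∣_ U).base.hom y) ∈ Z
          rw [hval]
          exact hp'Z
        have h2 : y ∈ (g ∣_ U).base.hom ⁻¹' V := h1.1
        rw [he] at h2
        exact h1.2 h2)
      have hx : vA x ∈ US ∩ Z := by
        refine ⟨x.2, ?_⟩
        have : x ∈ V ∩ V'ᶜ := ⟨hxV, hxV'⟩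
        rw [← hZV] at this
        exact this
      rw [h0] at hx
      exact hx
    rintro ⟨V, hV⟩ ⟨V', hV'⟩ he
    have he' := congrArg Subtype.val he
    exact Subtype.ext (Set.Subset.antisymm (key V V' hV hV' he') (key V' V hV' hV he'.symm))
  · rintro ⟨V', hV'⟩
    obtain ⟨V₁, V₂, hV₁, hV₂, hV, hVU, e₁, e₂⟩ := exists_split I hI hIB hq US
      U.isOpen hU hUI' (vB '' V') (vB '' V'ᶜ) (hvB.isOpenMap _ hV'.2)
      (hvB.isOpenMap _ hV'.compl.2)
      ((Set.disjoint_image_iff hvB.injective).2 disjoint_compl_right) (by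
        rw [← Set.image_union, Set.union_compl_self, Set.image_univ]
        exact Subtype.range_val)
    have hcompl : (vA ⁻¹' V₁)ᶜ = vA ⁻¹' V₂ := by
      ext x
      have hx : vA x ∈ V₁ ∪ V₂ := by
        rw [hVU]
        exact x.2
      constructor
      · intro h
        exact hx.resolve_left h
      · intro h h'
        exact Set.disjoint_left.1 hV h' h
    refine ⟨⟨vA ⁻¹' V₁, ?_, hV₁.preimage hvA.continuous⟩, Subtype.ext ?_⟩
    · rw [← isOpen_compl_iff, hcompl]
      exact hV₂.preimage hvA.continuous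
    · ext x
      change vA ((g ∣_ U).base.hom x) ∈ V₁ ↔ x ∈ V'
      rw [hval]
      change vB x ∈ PrimeSpectrum.comap (algebraMap A B) ⁻¹' V₁ ↔ _
      rw [e₁]
      exact ⟨fun ⟨y, hy, hyx⟩ => hvB.injective hyx ▸ hy, fun h => ⟨x, h, rfl⟩⟩

end Groth.Agent.Hensel.K98.CloRigid
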