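import Mathlib.RingTheory.Spectrum.Prime.Topology
import Mathlib.RingTheory.Nakayama
import Mathlib.RingTheory.MvPolynomial.Homogeneous

/-!
# Algebra for the rigidity of clopen subsets

`A → B` with `A/I^n ≅ B/I^nB`.
* `comap_sup_le`: `(K B + I^n B) ∩ A = K + I^n`.
* `exists_comap_eq`: points of `V(I)` lift to `Spec B`.
* `exists_homogeneous`: elements of `I · (c)^d` are values of homogeneous polynomials with coefficients in `I`.
* `exists_families`: a decomposition of a quasi-compact open subset of `Spec B` into two disjoint open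
  subsets is given by finite families `a`, `b` with `a_i b_j = 0`.
-/

set_option autoImplicit false
universe u

open MvPolynomial

namespace Groth.Agent.Hensel.K98.PairAlg

section quot

variable {A B : Type*} [CommRing A] [CommRing B] (f : A →+* B) (J : Ideal A)

theorem comap_sup_le
    (hq : Function.Bijective (Ideal.quotientMap (J.map f) f Ideal.le_comap_map)) (K : Ideal A) :
    ((K ⊔ J).map f).comap f ≤ K ⊔ J := by
  intro x hx
  let q := Ideal.quotientMap (J.map f) f Ideal.le_comap_map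
  have hcomm : (Ideal.Quotient.mk (J.map f)).comp f = q.comp (Ideal.Quotient.mk J) := by
    ext a
    rfl
  have h1 : Ideal.Quotient.mk (J.map f) (f x) ∈ ((K ⊔ J).map f).map (Ideal.Quotient.mk (J.map f)) :=
    Ideal.mem_map_of_mem _ hx
  rw [Ideal.map_map, hcomm, ← Ideal.map_map] at h1
  obtain ⟨y, hy, hyx⟩ := (Ideal.mem_map_iff_of_surjective q hq.2).1 h1
  have h2 : y = Ideal.Quotient.mk J x := hq.1 hyx
  subst h2
  obtain ⟨z, hz, hzx⟩ := (Ideal.mem_map_iff_of_surjective _ Ideal.Quotient.mk_surjective).1 hy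
  have h3 : x - z ∈ J := Ideal.Quotient.eq.1 hzx.symm
  have h4 : x = (x - z) + z := by ring
  rw [h4]
  exact Ideal.add_mem _ (Ideal.mem_sup_right h3) hz

theorem exists_sub_mem
    (hq : Function.Bijective (Ideal.quotientMap (J.map f) f Ideal.le_comap_map)) (b : B) :
    ∃ a : A, f a - b ∈ J.map f := by
  obtain ⟨x, hx⟩ := hq.2 (Ideal.Quotient.mk _ b)
  obtain ⟨a, rfl⟩ := Ideal.Quotient.mk_surjective x
  exact ⟨a, Ideal.Quotient.eq.1 hx⟩

theorem mem_of_map_mem
    (hq : Function.Bijective (Ideal.quotientMap (J.map f) f Ideal.le_comap_map)) {a : A}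
    (ha : f a ∈ J.map f) : a ∈ J := by
  have h := comap_sup_le f J hq ⊥
  rw [bot_sup_eq] at h
  exact h ha

theorem exists_comap_eq
    (hq : Function.Bijective (Ideal.quotientMap (J.map f) f Ideal.le_comap_map))
    (p : PrimeSpectrum A) (hp : J ≤ p.asIdeal) :
    ∃ p' : PrimeSpectrum B, J.map f ≤ p'.asIdeal ∧ PrimeSpectrum.comap f p' = p := by
  let q := Ideal.quotientMap (J.map f) f Ideal.le_comap_map
  let e := RingEquiv.ofBijective q hq
  have hpJ : p ∈ Set.range (PrimeSpectrum.comap (Ideal.Quotient.mk J)) := by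
    rw [range_comap_of_surjective _ _ Ideal.Quotient.mk_surjective, Ideal.mk_ker]
    exact hp
  obtain ⟨r, rfl⟩ := hpJ
  refine ⟨PrimeSpectrum.comap (Ideal.Quotient.mk (J.map f))
    (PrimeSpectrum.comap (e.symm : B ⧸ J.map f →+* A ⧸ J) r), ?_, ?_⟩
  · intro x hx
    change (e.symm : B ⧸ J.map f →+* A ⧸ J) (Ideal.Quotient.mk (J.map f) x) ∈ r.asIdeal
    rw [Ideal.Quotient.eq_zero_iff_mem.2 hx, map_zero]
    exact Ideal.zero_mem _
  · ext x
    change (e.symm : B ⧸ J.map f →+* A ⧸ J) (Ideal.Quotient.mk (J.map f) (f x)) ∈ r.asIdeal ↔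
      Ideal.Quotient.mk J x ∈ r.asIdeal
    have h : (e.symm : B ⧸ J.map f →+* A ⧸ J) (Ideal.Quotient.mk (J.map f) (f x)) =
        Ideal.Quotient.mk J x := e.symm_apply_apply (Ideal.Quotient.mk J x)
    rw [h]

end quot

section hom

variable {σ : Type*} {A : Type*} [CommRing A] (c : σ → A)

theorem exists_homogeneous_pow (d : ℕ) {x : A} (hx : x ∈ Ideal.span (Set.range c) ^ d) :
    ∃ h : MvPolynomial σ A, h.IsHomogeneous d ∧ eval c h = x := by
  induction d generalizing x with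
  | zero => exact ⟨C x, isHomogeneous_C _ _, eval_C _⟩
  | succ d ih =>
    rw [pow_succ] at hx
    refine Submodule.mul_induction_on hx (fun s hs t ht => ?_) fun s t hs ht => ?_
    · obtain ⟨h, hh, rfl⟩ := ih hs
      have key : ∃ h' : MvPolynomial σ A, h'.IsHomogeneous 1 ∧ eval c h' = t := by
        refine Submodule.span_induction (p := fun t _ => ∃ h' : MvPolynomial σ A, h'.IsHomogeneous 1 ∧
          eval c h' = t) ?_ ?_ ?_ ?_ ht
        · rintro _ ⟨l, rfl⟩
          exact ⟨X l, isHomogeneous_X _ _, eval_X _⟩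
        · exact ⟨0, isHomogeneous_zero _ _ _, map_zero _⟩
        · rintro _ _ _ _ ⟨h₁, hh₁, rfl⟩ ⟨h₂, hh₂, rfl⟩
          exact ⟨h₁ + h₂, hh₁.add hh₂, map_add _ _ _⟩
        · rintro r _ _ ⟨h₁, hh₁, rfl⟩
          refine ⟨C r * h₁, ?_, by simp⟩
          have := (isHomogeneous_C σ r).mul hh₁
          rwa [zero_add] at this
      obtain ⟨h', hh', rfl⟩ := key
      exact ⟨h * h', hh.mul hh', map_mul _ _ _⟩
    · obtain ⟨h₁, hh₁, rfl⟩ := hs
      obtain ⟨h₂, hh₂, rfl⟩ := ht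
      exact ⟨h₁ + h₂, hh₁.add hh₂, map_add _ _ _⟩

theorem exists_homogeneous (I : Ideal A) (d : ℕ) {x : A} (hx : x ∈ I * Ideal.span (Set.range c) ^ d) :
    ∃ h : MvPolynomial σ A, h.IsHomogeneous d ∧ h ∈ I.map (C : A →+* MvPolynomial σ A) ∧
      eval c h = x := by
  refine Submodule.mul_induction_on hx (fun s hs t ht => ?_) fun s t hs ht => ?_
  · obtain ⟨h, hh, rfl⟩ := exists_homogeneous_pow c d ht
    refine ⟨C s * h, ?_, Ideal.mul_mem_right _ _ (Ideal.mem_map_of_mem _ hs), by simp⟩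
    have := (isHomogeneous_C σ s).mul hh
    rwa [zero_add] at this
  · obtain ⟨h₁, hh₁, hi₁, rfl⟩ := hs
    obtain ⟨h₂, hh₂, hi₂, rfl⟩ := ht
    exact ⟨h₁ + h₂, hh₁.add hh₂, Ideal.add_mem _ hi₁ hi₂, map_add _ _ _⟩

end hom

section families

variable {B : Type u} [CommRing B]

open PrimeSpectrum

theorem exists_family (O : Set (PrimeSpectrum B)) (hO : IsOpen O) (hc : IsCompact O) :
    ∃ s : Finset B, ∀ p : PrimeSpectrum B, p ∈ O ↔ ∃ i : s, (i : B) ∉ p.asIdeal := by
  obtain ⟨s, hs⟩ := (PrimeSpectrum.isCompact_isOpen_iff (s := O)).1 ⟨hc, hO⟩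
  refine ⟨s, fun p => ?_⟩
  rw [← hs, Set.mem_compl_iff, mem_zeroLocus, Set.not_subset]
  constructor
  · rintro ⟨x, hx, hxp⟩
    exact ⟨⟨x, hx⟩, hxp⟩
  · rintro ⟨⟨x, hx⟩, hxp⟩
    exact ⟨x, hx, hxp⟩

/-- A decomposition of a quasi-compact open subset into two disjoint open subsets. -/
theorem exists_families (O₁ O₂ : Set (PrimeSpectrum B)) (h₁ : IsOpen O₁) (h₂ : IsOpen O₂)
    (hd : Disjoint O₁ O₂) (hc : IsCompact (O₁ ∪ O₂)) :
    ∃ (s t : Finset B) (a : s → B) (b : t → B),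
      (∀ p : PrimeSpectrum B, p ∈ O₂ ↔ ∃ i, a i ∉ p.asIdeal) ∧
      (∀ p : PrimeSpectrum B, p ∈ O₁ ↔ ∃ j, b j ∉ p.asIdeal) ∧
      ∀ i j, a i * b j = 0 := by
  have e₁ : O₁ = (O₁ ∪ O₂) ∩ O₂ᶜ := by
    ext p
    constructor
    · exact fun hp => ⟨Or.inl hp, fun h => Set.disjoint_left.1 hd hp h⟩
    · rintro ⟨hp | hp, h⟩
      · exact hp
      · exact absurd hp h
  have e₂ : O₂ = (O₁ ∪ O₂) ∩ O₁ᶜ := by
    ext p
    constructor
    · exact fun hp => ⟨Or.inr hp, fun h => Set.disjoint_left.1 hd h hp⟩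
    · rintro ⟨hp | hp, h⟩
      · exact absurd hp h
      · exact hp
  have c₁ : IsCompact O₁ := by
    rw [e₁]
    exact hc.inter_right h₂.isClosed_compl
  have c₂ : IsCompact O₂ := by
    rw [e₂]
    exact hc.inter_right h₁.isClosed_compl
  obtain ⟨t, ht⟩ := exists_family O₁ h₁ c₁
  obtain ⟨s, hs⟩ := exists_family O₂ h₂ c₂
  have hnil : ∀ (i : s) (j : t), IsNilpotent ((i : B) * j) := by
    intro i j
    rw [← mem_nilradical, nilradical_eq_sInf, Ideal.mem_sInf]
    intro p hp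
    by_contra hij
    have hi : (i : B) ∉ p := fun h => hij (Ideal.mul_mem_right _ _ h)
    have hj : (j : B) ∉ p := fun h => hij (Ideal.mul_mem_left _ _ h)
    exact Set.disjoint_left.1 hd ((ht ⟨p, hp⟩).2 ⟨j, hj⟩) ((hs ⟨p, hp⟩).2 ⟨i, hi⟩)
  choose n hn using hnil
  let M : ℕ := (∑ i : s, ∑ j : t, n i j) + 1
  have hM : ∀ (i : s) (j : t), ((i : B) * j) ^ M = 0 := by
    intro i j
    refine pow_eq_zero_of_le ?_ (hn i j)
    refine le_trans ?_ (Nat.le_succ _)
    exact (Finset.single_le_sum (f := fun j => n i j) (fun _ _ => Nat.zero_le _)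
      (Finset.mem_univ j)).trans (Finset.single_le_sum (f := fun i => ∑ j : t, n i j)
      (fun _ _ => Nat.zero_le _) (Finset.mem_univ i))
  refine ⟨s, t, fun i => (i : B) ^ M, fun j => (j : B) ^ M, fun p => ?_, fun p => ?_, fun i j => ?_⟩
  · rw [hs]
    refine exists_congr fun i => not_congr ?_
    exact ⟨fun h => Ideal.pow_mem_of_mem _ h _ (Nat.succ_pos _), fun h => p.2.mem_of_pow_mem _ h⟩
  · rw [ht]
    refine exists_congr fun i => not_congr ?_
    exact ⟨fun h => Ideal.pow_mem_of_mem _ h _ (Nat.succ_pos _), fun h => p.2.mem_of_pow_mem _ h⟩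
  · rw [← mul_pow]
    exact hM i j

end families

end Groth.Agent.Hensel.K98.PairAlg
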