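import Groth.Agent.Hensel.K98.ProjPt
import Mathlib.RingTheory.Valuation.LocalSubring
import Mathlib.RingTheory.LocalRing.ResidueField.Ideal

/-!
# Specializations of points of projective space into the closed fibre

`exists_specialization`: `B` an `A`-algebra, `IB` in the Jacobson radical; a point `p` of `Spec B` over `D(c)`;
the point `[c]` of `P_A` over the image of `p` specializes to a point in the fibre over `V(I)` at which all the
coordinates `T_i` vanish such that `c_i` is congruent modulo `I · (c) B` to an element of `p`.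
-/

set_option autoImplicit false
universe u

open MvPolynomial

namespace Groth.Agent.Hensel.K98.Special

open ProjPt

theorem eval₂_mul_eq {σ A V : Type*} [CommRing A] [CommRing V] (ρ : A →+* V) (t : V) (γ : σ → V)
    {F : MvPolynomial σ A} {d : ℕ} (hF : F.IsHomogeneous d) :
    eval₂ ρ (fun j => t * γ j) F = t ^ d * eval₂ ρ γ F := by
  rw [eval₂_eq, eval₂_eq, Finset.mul_sum]
  refine Finset.sum_congr rfl fun m hm => ?_
  have h1 : ∏ i ∈ m.support, (t * γ i) ^ m i = t ^ d * ∏ i ∈ m.support, γ i ^ m i := by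
    simp_rw [mul_pow]
    rw [Finset.prod_mul_distrib, Finset.prod_pow_eq_pow_sum]
    congr 2
    have := hF (mem_support_iff.1 hm)
    rw [Finsupp.weight_apply] at this
    simpa [Finsupp.sum] using this
  rw [h1]
  ring

theorem exists_specialization {σ A B : Type u} [CommRing A] [CommRing B] [Algebra A B] [Finite σ]
    (I : Ideal A) (hI : I.map (algebraMap A B) ≤ (⊥ : Ideal B).jacobson) (c : σ → A)
    (p : PrimeSpectrum B)
    (hc : ∃ l, c l ∉ (PrimeSpectrum.comap (algebraMap A B) p).asIdeal) :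
    ∃ q₀ : PS σ A,
      (sec c (PrimeSpectrum.comap (algebraMap A B) p) hc).asHomogeneousIdeal ≤ q₀.asHomogeneousIdeal ∧
      (∀ x ∈ I, (C x : MvPolynomial σ A) ∈ q₀.asHomogeneousIdeal) ∧
      ∀ i : σ, (∃ y ∈ p.asIdeal, algebraMap A B (c i) - y ∈
        I.map (algebraMap A B) * (Ideal.span (Set.range c)).map (algebraMap A B)) →
        (X i : MvPolynomial σ A) ∈ q₀.asHomogeneousIdeal := by
  obtain ⟨𝔪, hm, hpm⟩ := Ideal.exists_le_maximal p.asIdeal p.2.ne_top
  have hIm : I.map (algebraMap A B) ≤ 𝔪 := hI.trans (sInf_le ⟨bot_le, hm⟩)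
  let K := p.asIdeal.ResidueField
  have hunit : ∀ y : 𝔪.primeCompl, IsUnit (algebraMap B K y) := by
    intro y
    refine IsUnit.mk0 _ fun h => y.2 (hpm ?_)
    exact Ideal.algebraMap_residueField_eq_zero.1 h
  let f : Localization.AtPrime 𝔪 →+* K := IsLocalization.lift (M := 𝔪.primeCompl) hunit
  obtain ⟨V, hV, hloc⟩ := IsLocalRing.exists_factor_valuationRing f
  let ρ' : Localization.AtPrime 𝔪 →+* V := f.codRestrict V.toSubring hV
  let ρ : B →+* V := ρ'.comp (algebraMap B (Localization.AtPrime 𝔪))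
  have hρcoe : ∀ b : B, ((ρ b : V) : K) = algebraMap B K b := fun b =>
    IsLocalization.lift_eq (M := 𝔪.primeCompl) hunit b
  have hρ0 : ∀ b : B, ρ b = 0 ↔ b ∈ p.asIdeal := by
    intro b
    rw [← Ideal.algebraMap_residueField_eq_zero (I := p.asIdeal), ← hρcoe b]
    exact ⟨fun h => by rw [h]; rfl, fun h => Subtype.ext h⟩
  have hρm : ∀ b ∈ 𝔪, ρ b ∈ IsLocalRing.maximalIdeal V := by
    intro b hb
    rw [IsLocalRing.mem_maximalIdeal]
    intro hu
    have h1 : IsUnit (algebraMap B (Localization.AtPrime 𝔪) b) := by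
      have : IsLocalHom ρ' := hloc
      exact isUnit_of_map_unit ρ' _ hu
    rw [IsLocalization.AtPrime.isUnit_to_map_iff (Localization.AtPrime 𝔪) 𝔪] at h1
    exact h1 hb
  let τ : A →+* V := ρ.comp (algebraMap A B)
  have : Nonempty σ := ⟨hc.choose⟩
  obtain ⟨l, hl⟩ := Finite.exists_max (fun j => V.valuation ((τ (c j) : V) : K))
  have hdvd : ∀ j, ∃ γ : V, τ (c j) = τ (c l) * γ := by
    intro j
    obtain ⟨γ, hγ⟩ := (V.valuation_le_iff _ _).1 (hl j)
    refine ⟨γ, Subtype.ext ?_⟩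
    rw [← hγ, mul_comm]
    rfl
  have hcl : τ (c l) ≠ 0 := by
    intro h
    obtain ⟨j, hj⟩ := hc
    apply hj
    obtain ⟨γ, hγ⟩ := hdvd j
    rw [h, zero_mul] at hγ
    exact (hρ0 _).1 hγ
  choose γ' hγ' using hdvd
  let γ : σ → V := γ'
  have hγl : γ l = 1 := by
    have := hγ' l
    exact (mul_right_eq_self₀.1 this.symm).resolve_right hcl
  let θ : MvPolynomial σ A →+* V := eval₂Hom τ γ
  have hθX : ∀ i, θ (X i) = γ i := fun i => eval₂_X _ _ _
  have hθC : ∀ a, θ (C a) = τ a := fun a => eval₂_C _ _ _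
  have hq : ∃ l, θ (X l) ∉ IsLocalRing.maximalIdeal V := by
    refine ⟨l, ?_⟩
    rw [hθX, hγl]
    exact (Ideal.ne_top_iff_one _).1 (IsLocalRing.maximalIdeal.isMaximal V).ne_top
  refine ⟨pt θ (IsLocalRing.maximalIdeal V) hq, ?_, ?_, ?_⟩
  · rw [le_iff]
    intro d F hF hmem
    rw [mem_sec _ _ _ hF] at hmem
    rw [mem_pt _ _ _ hF]
    have h1 : τ (eval c F) = 0 := (hρ0 _).2 hmem
    have h2 : τ (eval c F) = τ (c l) ^ d * θ F := by
      have h3 : τ (eval c F) = eval₂ τ (fun j => τ (c l) * γ j) F := by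
        rw [← eval₂_id (g := c), hom_eval₂]
        congr 1
        funext j
        exact hγ' j
      rw [h3, eval₂_mul_eq τ _ _ hF]
      rfl
    rw [h1] at h2
    have h4 : θ F = 0 := (mul_eq_zero.1 h2.symm).resolve_left (pow_ne_zero _ hcl)
    rw [h4]
    exact Ideal.zero_mem _
  · intro x hx
    rw [mem_pt _ _ _ (isHomogeneous_C σ x), hθC]
    exact hρm _ (hIm (Ideal.mem_map_of_mem _ hx))
  · rintro i ⟨y, hy, hiy⟩
    rw [mem_pt _ _ _ (isHomogeneous_X A i), hθX]
    have h1 : τ (c i) = ρ (algebraMap A B (c i) - y) := by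
      rw [map_sub, (hρ0 y).2 hy, sub_zero]
      rfl
    have h2 := Ideal.mem_map_of_mem ρ hiy
    rw [Ideal.map_mul] at h2
    have h3 : ((Ideal.span (Set.range c)).map (algebraMap A B)).map ρ ≤ Ideal.span {τ (c l)} := by
      rw [Ideal.map_map, Ideal.map_span, Ideal.span_le]
      rintro _ ⟨_, ⟨j, rfl⟩, rfl⟩
      exact Ideal.mem_span_singleton.2 ⟨γ j, hγ' j⟩
    have h4 := Ideal.mul_mono_right h3 h2
    rw [Ideal.mem_mul_span_singleton] at h4
    obtain ⟨z, hz, hz'⟩ := h4
    rw [← h1, hγ' i, mul_comm] at hz'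
    have h5 : z = γ i := mul_left_cancel₀ hcl hz'
    rw [← h5]
    have h6 : (I.map (algebraMap A B)).map ρ ≤ IsLocalRing.maximalIdeal V := by
      rw [Ideal.map_le_iff_le_comap]
      exact fun b hb => hρm b (hIm hb)
    exact h6 hz

end Groth.Agent.Hensel.K98.Special
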