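import Groth.Agent.S1366
import Groth.Agent.Hensel.K98.Special
import Groth.Agent.Hensel.K98.PairAlg

/-!
# Rigidity of clopen subsets over henselian pairs

`A → B` with `A/I^n ≅ B/I^nB`, `(A, I)` henselian, `I` finitely generated, `IB` in the Jacobson radical of
`B`, `U` a quasi-compact open subset of `Spec A` containing `Spec A ∖ V(I)`.
* `exists_split`: every decomposition of the preimage of `U` in `Spec B` into two disjoint open subsets
  comes from such a decomposition of `U`.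
* `eq_empty`: a clopen subset of `U` with empty preimage in `Spec B` is empty.

The proof of `exists_split`: let `a`, `b` be finite families of elements of `B` with `a_i b_j = 0` defining the
decomposition, `a'`, `b'` approximations in `A` modulo a high power of `I`; then `a'_i b'_j ∈ I · (a', b')^2`, so
the closed subset `Z` of the projective space over `A` with the equations `X_i Y_j = h_ij`,
`h_ij` homogeneous of degree two with coefficients in `I`, contains the section `[a' : b']` over `U`; its fibre over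
`V(I)` is the disjoint union of `{X = 0}` and `{Y = 0}`. Lift this decomposition to `Z`.
-/

set_option autoImplicit false
universe u

open AlgebraicGeometry CategoryTheory MvPolynomial TopologicalSpace

namespace Groth.Agent.Hensel.K98.CloSplit

open ProjPt PairAlg Special

/-- Lifting decompositions of the part of a closed subset of a proper scheme over `V(I)`. -/
theorem exists_split_proper {A : Type u} [CommRing A] (I : Ideal A) [HenselianRing A I] {P : Scheme.{u}}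
    (g : P ⟶ Spec (CommRingCat.of A)) [IsProper g] (Z Y Y' : Set P) (hZ : IsClosed Z) (hY : IsClosed Y)
    (hY' : IsClosed Y') (hd : Disjoint Y Y') (hu : Y ∪ Y' = Z ∩ g ⁻¹' (S1366.VI I)) :
    ∃ W W' : Set P, IsClosed W ∧ IsClosed W' ∧ Disjoint W W' ∧ W ∪ W' = Z ∧ Y ⊆ W ∧ Y' ⊆ W' := by
  let 𝓘 := Scheme.IdealSheafData.vanishingIdeal (⟨Z, hZ⟩ : Closeds P)
  let i := 𝓘.subschemeι
  have hr : Set.range i = Z := by
    have h := 𝓘.range_subschemeι
    rw [Scheme.IdealSheafData.coe_support_vanishingIdeal] at h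
    exact h
  have hemb : Topology.IsClosedEmbedding i := i.isClosedEmbedding
  obtain ⟨W₀, hW₀, hYW, hYW'⟩ := S1366.exists_clopen_proper I (i ≫ g) (i ⁻¹' Y) (i ⁻¹' Y')
    (hY.preimage i.continuous) (hY'.preimage i.continuous) (hd.preimage _) (by
      rw [← Set.preimage_union, hu]
      ext x
      constructor
      · rintro ⟨-, hx⟩
        rw [Set.mem_preimage, Scheme.Hom.comp_apply]
        exact hx
      · intro hx
        rw [Set.mem_preimage, Scheme.Hom.comp_apply] at hx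
        exact ⟨hr ▸ ⟨x, rfl⟩, hx⟩)
  refine ⟨i '' W₀, i '' W₀ᶜ, hemb.isClosedMap _ hW₀.1, hemb.isClosedMap _ hW₀.compl.1, ?_, ?_, ?_, ?_⟩
  · exact (Set.disjoint_image_iff hemb.injective).2 disjoint_compl_right
  · rw [← Set.image_union, Set.union_compl_self, Set.image_univ, hr]
  · intro y hy
    have hyZ : y ∈ Z := by
      have : y ∈ Y ∪ Y' := Or.inl hy
      rw [hu] at this
      exact this.1
    rw [← hr] at hyZ
    obtain ⟨x, rfl⟩ := hyZ
    exact ⟨x, hYW hy, rfl⟩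
  · intro y hy
    have hyZ : y ∈ Z := by
      have : y ∈ Y ∪ Y' := Or.inr hy
      rw [hu] at this
      exact this.1
    rw [← hr] at hyZ
    obtain ⟨x, rfl⟩ := hyZ
    exact ⟨x, fun h => Set.disjoint_left.1 hYW' hy h, rfl⟩

/-- The core of the argument, in terms of families of elements of `A`. -/
theorem exists_split_family {A : Type u} [CommRing A] (I : Ideal A) [HenselianRing A I] {ι κ : Type u}
    [Finite ι] [Finite κ] (c : ι ⊕ κ → A)
    (hc : ∀ i j, c (Sum.inl i) * c (Sum.inr j) ∈ I * Ideal.span (Set.range c) ^ 2) :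
    ∃ V₁ V₂ : Set (PrimeSpectrum A), IsOpen V₁ ∧ IsOpen V₂ ∧ Disjoint V₁ V₂ ∧
      (∀ p, p ∈ V₁ ∪ V₂ ↔ ∃ l, c l ∉ p.asIdeal) ∧
      (∀ (p : PrimeSpectrum A) (h : ∃ l, c l ∉ p.asIdeal) (q : PS (ι ⊕ κ) A),
        (sec c p h).asHomogeneousIdeal ≤ q.asHomogeneousIdeal →
        (∀ x ∈ I, (C x : MvPolynomial (ι ⊕ κ) A) ∈ q.asHomogeneousIdeal) →
        (∀ i, (X (Sum.inl i) : MvPolynomial (ι ⊕ κ) A) ∈ q.asHomogeneousIdeal) → p ∈ V₁) ∧
      (∀ (p : PrimeSpectrum A) (h : ∃ l, c l ∉ p.asIdeal) (q : PS (ι ⊕ κ) A),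
        (sec c p h).asHomogeneousIdeal ≤ q.asHomogeneousIdeal →
        (∀ x ∈ I, (C x : MvPolynomial (ι ⊕ κ) A) ∈ q.asHomogeneousIdeal) →
        (∀ j, (X (Sum.inr j) : MvPolynomial (ι ⊕ κ) A) ∈ q.asHomogeneousIdeal) → p ∈ V₂) := by
  choose h hh hhI hhe using fun i j => exists_homogeneous c I 2 (hc i j)
  let g := str (ι ⊕ κ) A
  have hg : IsProper g := isProper_str
  let Z : Set (Proj (gr (ι ⊕ κ) A)) := ProjectiveSpectrum.zeroLocus (gr (ι ⊕ κ) A)
    {F | ∃ i j, F = X (Sum.inl i) * X (Sum.inr j) - h i j}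
  let T : Set (Proj (gr (ι ⊕ κ) A)) := ProjectiveSpectrum.zeroLocus (gr (ι ⊕ κ) A)
    {F | ∃ x ∈ I, F = C x}
  let R₁ : Set (Proj (gr (ι ⊕ κ) A)) := ProjectiveSpectrum.zeroLocus (gr (ι ⊕ κ) A)
    {F | ∃ i, F = X (Sum.inl i)}
  let R₂ : Set (Proj (gr (ι ⊕ κ) A)) := ProjectiveSpectrum.zeroLocus (gr (ι ⊕ κ) A)
    {F | ∃ j, F = X (Sum.inr j)}
  have hZ : IsClosed Z := ProjectiveSpectrum.isClosed_zeroLocus _ _
  have hT : IsClosed T := ProjectiveSpectrum.isClosed_zeroLocus _ _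
  have hR₁ : IsClosed R₁ := ProjectiveSpectrum.isClosed_zeroLocus _ _
  have hR₂ : IsClosed R₂ := ProjectiveSpectrum.isClosed_zeroLocus _ _
  have mZ : ∀ x : PS (ι ⊕ κ) A, x ∈ Z ↔ ∀ i j,
      X (Sum.inl i) * X (Sum.inr j) - h i j ∈ x.asHomogeneousIdeal := fun x =>
    ⟨fun hx i j => hx ⟨i, j, rfl⟩, by rintro hx _ ⟨i, j, rfl⟩; exact hx i j⟩
  have mT : ∀ x : PS (ι ⊕ κ) A, x ∈ T ↔ ∀ a ∈ I,
      (C a : MvPolynomial (ι ⊕ κ) A) ∈ x.asHomogeneousIdeal := fun x =>
    ⟨fun hx a ha => hx ⟨a, ha, rfl⟩, by rintro hx _ ⟨a, ha, rfl⟩; exact hx a ha⟩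
  have mR₁ : ∀ x : PS (ι ⊕ κ) A, x ∈ R₁ ↔ ∀ i,
      (X (Sum.inl i) : MvPolynomial (ι ⊕ κ) A) ∈ x.asHomogeneousIdeal := fun x =>
    ⟨fun hx a => hx ⟨a, rfl⟩, by rintro hx _ ⟨a, rfl⟩; exact hx a⟩
  have mR₂ : ∀ x : PS (ι ⊕ κ) A, x ∈ R₂ ↔ ∀ i,
      (X (Sum.inr i) : MvPolynomial (ι ⊕ κ) A) ∈ x.asHomogeneousIdeal := fun x =>
    ⟨fun hx a => hx ⟨a, rfl⟩, by rintro hx _ ⟨a, rfl⟩; exact hx a⟩
  have hTg : T = g ⁻¹' (S1366.VI I) := by
    ext x
    refine (mT x).trans ?_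
    constructor
    · intro hx a ha
      exact (mem_str_iff x a).2 (hx a ha)
    · intro hx a ha
      exact (mem_str_iff x a).1 (hx ha)
  have hdisj : Disjoint (Z ∩ T ∩ R₁) (Z ∩ T ∩ R₂) := by
    rw [Set.disjoint_left]
    rintro (x : PS (ι ⊕ κ) A) ⟨-, h₁⟩ ⟨-, h₂⟩
    replace h₁ := (mR₁ x).1 h₁
    replace h₂ := (mR₂ x).1 h₂
    apply x.not_irrelevant_le
    intro F hF
    rw [HomogeneousIdeal.mem_irrelevant_iff, GradedRing.proj_apply] at hF
    replace hF : homogeneousComponent 0 F = 0 := (decomposition.decompose'_apply F 0).symm.trans hF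
    have hspan : Ideal.span (Set.range (X : ι ⊕ κ → MvPolynomial (ι ⊕ κ) A)) ≤
        x.asHomogeneousIdeal.toIdeal := by
      rw [Ideal.span_le]
      rintro _ ⟨i | j, rfl⟩
      · exact h₁ i
      · exact h₂ j
    apply hspan
    have hc0 : coeff 0 F = 0 := by
      have h3 := congrArg (coeff 0) hF
      rw [coeff_homogeneousComponent] at h3
      simpa using h3
    rw [← Set.image_univ, mem_ideal_span_X_image]
    intro m hm
    by_contra hcon
    have hm0 : m = 0 := by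
      ext i
      by_contra h5
      exact hcon ⟨i, Set.mem_univ _, h5⟩
    rw [hm0, mem_support_iff] at hm
    exact hm hc0
  have hunion : (Z ∩ T ∩ R₁) ∪ (Z ∩ T ∩ R₂) = Z ∩ g ⁻¹' (S1366.VI I) := by
    rw [← hTg]
    apply Set.Subset.antisymm
    · rintro x (hx | hx)
      · exact hx.1
      · exact hx.1
    · rintro (x : PS (ι ⊕ κ) A) ⟨hxZ, hxT⟩
      by_cases h₁ : x ∈ R₁
      · exact Or.inl ⟨⟨hxZ, hxT⟩, h₁⟩
      · refine Or.inr ⟨⟨hxZ, hxT⟩, ?_⟩
        obtain ⟨i, hi⟩ := not_forall.1 fun h₃ => h₁ ((mR₁ x).2 h₃)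
        refine (mR₂ x).2 fun j => ?_
        have hle : I.map (C : A →+* MvPolynomial (ι ⊕ κ) A) ≤ x.asHomogeneousIdeal.toIdeal := by
          rw [Ideal.map_le_iff_le_comap]
          exact fun a ha => (mT x).1 hxT a ha
        have h2 : (X (Sum.inl i) * X (Sum.inr j) : MvPolynomial (ι ⊕ κ) A) ∈
            x.asHomogeneousIdeal.toIdeal := by
          have := Ideal.add_mem _ ((mZ x).1 hxZ i j) (hle (hhI i j))
          rwa [sub_add_cancel] at this
        exact (x.isPrime.mem_or_mem h2).resolve_left hi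
  obtain ⟨W, W', hW, hW', hWd, hWu, hYW, hYW'⟩ := exists_split_proper I g Z _ _ hZ
    ((hZ.inter hT).inter hR₁) ((hZ.inter hT).inter hR₂) hdisj hunion
  have hsecZ : ∀ (p : PrimeSpectrum A) (h : ∃ l, c l ∉ p.asIdeal), sec c p h ∈ Z := by
    intro p h'
    refine (mZ _).2 fun i j => ?_
    rw [mem_sec c p h' (d := 2)]
    · rw [map_sub, map_mul, eval_X, eval_X, hhe, sub_self]
      exact Ideal.zero_mem _
    · exact ((isHomogeneous_X A _).mul (isHomogeneous_X A _)).sub (hh i j)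
  have hspec : ∀ x y : PS (ι ⊕ κ) A, x.asHomogeneousIdeal ≤ y.asHomogeneousIdeal →
      ∀ Q : Set (Proj (gr (ι ⊕ κ) A)), IsClosed Q → x ∈ Q → y ∈ Q := by
    intro x y hxy Q hQ hx
    have h1 : y ∈ closure ({x} : Set (PS (ι ⊕ κ) A)) :=
      (ProjectiveSpectrum.le_iff_mem_closure _ x y).1 hxy
    exact closure_minimal (Set.singleton_subset_iff.2 hx) hQ h1
  refine ⟨{p | ∃ h : ∃ l, c l ∉ p.asIdeal, sec c p h ∈ W'ᶜ},
    {p | ∃ h : ∃ l, c l ∉ p.asIdeal, sec c p h ∈ Wᶜ}, isOpen_setOf c _ hW'.isOpen_compl,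
    isOpen_setOf c _ hW.isOpen_compl, ?_, ?_, ?_, ?_⟩
  · rw [Set.disjoint_left]
    rintro p ⟨h', h1⟩ ⟨h'', h2⟩
    have h3 := hsecZ p h'
    rw [← hWu] at h3
    rcases h3 with h3 | h3
    · exact h2 h3
    · exact h1 h3
  · intro p
    constructor
    · rintro (⟨h', -⟩ | ⟨h', -⟩)
      · exact h'
      · exact h'
    · intro h'
      by_cases h3 : sec c p h' ∈ W
      · exact Or.inl ⟨h', fun h4 => Set.disjoint_left.1 hWd h3 h4⟩
      · exact Or.inr ⟨h', h3⟩
  · intro p h' q hq hqI hqX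
    refine ⟨h', fun hW'mem => ?_⟩
    have hqW : q ∈ W := hYW ⟨⟨hspec _ _ hq Z hZ (hsecZ p h'), (mT q).2 hqI⟩, (mR₁ q).2 hqX⟩
    exact Set.disjoint_left.1 hWd hqW (hspec _ _ hq W' hW' hW'mem)
  · intro p h' q hq hqI hqX
    refine ⟨h', fun hWmem => ?_⟩
    have hqW : q ∈ W' := hYW' ⟨⟨hspec _ _ hq Z hZ (hsecZ p h'), (mT q).2 hqI⟩, (mR₂ q).2 hqX⟩
    exact Set.disjoint_left.1 hWd (hspec _ _ hq W hW hWmem) hqW

end Groth.Agent.Hensel.K98.CloSplit
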