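import Groth.Agent.Constr.K591.ToSpecZero
import Mathlib.AlgebraicGeometry.ProjectiveSpectrum.Proper
import Mathlib.RingTheory.GradedAlgebra.Radical
import Mathlib.RingTheory.MvPolynomial.Homogeneous

/-!
# Points of the projective space over a ring

`P = Proj A[T_l, l ∈ σ]`.
* `pt θ p h`: the point given by a ring map `θ : A[T] → R` and a prime `p` of `R` not containing all `θ T_l`.
* `isOpen_setOf`: for `c : σ → A` the map `D(c) → P`, `p ↦ [c]`, is continuous.
* `str`: the structure morphism `P ⟶ Spec A`, proper for finite `σ`; `mem_str_iff`.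
-/

set_option autoImplicit false
universe u

open AlgebraicGeometry CategoryTheory MvPolynomial

namespace Groth.Agent.Hensel.K98.ProjPt

variable {σ : Type u} {A : Type u} [CommRing A]

/-- The grading of the polynomial ring. -/
noncomputable abbrev gr (σ : Type u) (A : Type u) [CommRing A] : ℕ → Submodule A (MvPolynomial σ A) :=
  homogeneousSubmodule σ A

noncomputable instance : GradedAlgebra (gr σ A) := MvPolynomial.gradedAlgebra

/-- The projective spectrum of the polynomial ring as a topological space. -/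
abbrev PS (σ : Type u) (A : Type u) [CommRing A] : Type u := ProjectiveSpectrum (gr σ A)

theorem X_mem_irrelevant (l : σ) : (X l : MvPolynomial σ A) ∈ HomogeneousIdeal.irrelevant (gr σ A) := by
  rw [HomogeneousIdeal.mem_irrelevant_iff]
  rw [GradedRing.proj_apply, DirectSum.decompose_of_mem_ne (i := 1) (j := 0) (gr σ A)]
  · exact isHomogeneous_X A l
  · exact one_ne_zero

/-- The point of `Proj A[T]` given by a ring map `A[T] → R` and a prime ideal of `R`. -/
noncomputable def pt {R : Type*} [CommRing R] (θ : MvPolynomial σ A →+* R) (p : Ideal R) [p.IsPrime]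
    (h : ∃ l, θ (X l) ∉ p) : PS σ A where
  asHomogeneousIdeal := (p.comap θ).homogeneousCore _
  isPrime := Ideal.IsPrime.homogeneousCore inferInstance
  not_irrelevant_le := by
    obtain ⟨l, hl⟩ := h
    intro hle
    exact hl (Ideal.mem_comap.1
      (Ideal.toIdeal_homogeneousCore_le (gr σ A) (p.comap θ) (hle (X_mem_irrelevant l))))

theorem mem_pt {R : Type*} [CommRing R] (θ : MvPolynomial σ A →+* R) (p : Ideal R) [p.IsPrime]
    (h : ∃ l, θ (X l) ∉ p) {F : MvPolynomial σ A} {d : ℕ} (hF : F.IsHomogeneous d) :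
    F ∈ (pt θ p h).asHomogeneousIdeal ↔ θ F ∈ p := by
  constructor
  · intro hm
    exact Ideal.mem_comap.1 (Ideal.toIdeal_homogeneousCore_le (gr σ A) (p.comap θ) hm)
  · intro hm
    exact Ideal.mem_homogeneousCore_of_homogeneous_of_mem ⟨d, hF⟩ hm

/-- Membership in a homogeneous prime is detected on homogeneous elements. -/
theorem le_iff (x y : PS σ A) :
    x.asHomogeneousIdeal ≤ y.asHomogeneousIdeal ↔
      ∀ (d : ℕ) (F : MvPolynomial σ A), F.IsHomogeneous d → F ∈ x.asHomogeneousIdeal →
        F ∈ y.asHomogeneousIdeal := by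
  refine ⟨fun h d F _ hF => h hF, fun h F hF => ?_⟩
  have h1 : ∀ d, (homogeneousComponent d F) ∈ y.asHomogeneousIdeal := by
    intro d
    refine h d _ (homogeneousComponent_isHomogeneous d F) ?_
    have := x.asHomogeneousIdeal.isHomogeneous d hF
    rw [← decomposition.decompose'_apply]
    exact this
  rw [← sum_homogeneousComponent F]
  exact Ideal.sum_mem _ fun d _ => h1 d

theorem exists_homogeneous_notMem (x : PS σ A) (F : MvPolynomial σ A) (hF : F ∉ x.asHomogeneousIdeal) :
    ∃ d, homogeneousComponent d F ∉ x.asHomogeneousIdeal := by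
  by_contra hcon
  push Not at hcon
  apply hF
  rw [← sum_homogeneousComponent F]
  exact Ideal.sum_mem _ fun d _ => hcon d

theorem basicOpen_component_le (F : MvPolynomial σ A) (d : ℕ) (x : PS σ A)
    (h : homogeneousComponent d F ∉ x.asHomogeneousIdeal) : F ∉ x.asHomogeneousIdeal := by
  intro hF
  apply h
  have := x.asHomogeneousIdeal.isHomogeneous d hF
  rw [← decomposition.decompose'_apply]
  exact this

section sections

variable (c : σ → A)

/-- The point `[c]` over a point of `D(c)`. -/
noncomputable def sec (p : PrimeSpectrum A) (h : ∃ l, c l ∉ p.asIdeal) : PS σ A :=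
  pt (eval c) p.asIdeal (by simpa using h)

theorem mem_sec (p : PrimeSpectrum A) (h : ∃ l, c l ∉ p.asIdeal) {F : MvPolynomial σ A} {d : ℕ}
    (hF : F.IsHomogeneous d) : F ∈ (sec c p h).asHomogeneousIdeal ↔ eval c F ∈ p.asIdeal :=
  mem_pt _ _ _ hF

theorem isOpen_setOf (W : Set (PS σ A)) (hW : IsOpen W) :
    IsOpen {p : PrimeSpectrum A | ∃ h : ∃ l, c l ∉ p.asIdeal, sec c p h ∈ W} := by
  rw [isOpen_iff_forall_mem_open]
  rintro p ⟨⟨l, hl⟩, hp⟩
  obtain ⟨_, ⟨F, rfl⟩, hF, hFW⟩ :=
    (ProjectiveSpectrum.isTopologicalBasis_basic_opens (gr σ A)).isOpen_iff.1 hW _ hp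
  obtain ⟨d, hd⟩ := exists_homogeneous_notMem _ F hF
  rw [mem_sec c p _ (homogeneousComponent_isHomogeneous d F)] at hd
  refine ⟨PrimeSpectrum.basicOpen (eval c (homogeneousComponent d F) * c l), ?_,
    (PrimeSpectrum.basicOpen _).isOpen, ?_⟩
  · intro q hq
    have h1 : eval c (homogeneousComponent d F) ∉ q.asIdeal := fun h => hq (Ideal.mul_mem_right _ _ h)
    have h2 : c l ∉ q.asIdeal := fun h => hq (Ideal.mul_mem_left _ _ h)
    refine ⟨⟨l, h2⟩, hFW ?_⟩
    refine basicOpen_component_le F d _ ?_
    rwa [mem_sec c q _ (homogeneousComponent_isHomogeneous d F)]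
  · intro h
    exact (p.2.mem_or_mem h).elim hd hl

end sections

section str

/-- The structure morphism of the projective space. -/
noncomputable def str (σ : Type u) (A : Type u) [CommRing A] :
    Proj (gr σ A) ⟶ Spec (CommRingCat.of A) :=
  Proj.toSpecZero (gr σ A) ≫ Spec.map (CommRingCat.ofHom (algebraMap A (gr σ A 0)))

theorem isProper_str [Finite σ] : IsProper (str σ A) := by
  have : IsScalarTower A (gr σ A 0) (MvPolynomial σ A) :=
    ⟨fun a b c => by
      change ((a • b : gr σ A 0) : MvPolynomial σ A) * c =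
        a • ((b : MvPolynomial σ A) * c)
      rw [← smul_mul_assoc]
      rfl⟩
  have : Algebra.FiniteType (gr σ A 0) (MvPolynomial σ A) :=
    Algebra.FiniteType.of_restrictScalars_finiteType A _ _
  have hs : Function.Surjective (algebraMap A (gr σ A 0)) := by
    rintro ⟨p, hp⟩
    refine ⟨MvPolynomial.coeff 0 p, Subtype.ext ?_⟩
    rw [MvPolynomial.mem_homogeneousSubmodule] at hp
    have h2 := (MvPolynomial.totalDegree_zero_iff_isHomogeneous (p := p)).mpr hp
    exact (MvPolynomial.totalDegree_eq_zero_iff_eq_C.mp h2).symm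
  have : IsClosedImmersion (Spec.map (CommRingCat.ofHom (algebraMap A (gr σ A 0)))) :=
    IsClosedImmersion.spec_of_surjective _ hs
  have : IsProper (Proj.toSpecZero (gr σ A)) := inferInstance
  unfold str
  exact MorphismProperty.comp_mem @IsProper _ _ ‹_› inferInstance

theorem mem_str_iff (x : Proj (gr σ A)) (a : A) :
    a ∈ (show PrimeSpectrum A from (str σ A).base x).asIdeal ↔
      (C a : MvPolynomial σ A) ∈ (x : PS σ A).asHomogeneousIdeal := by
  rw [← not_iff_not]
  exact K591.ToSpecZero.toSpecZero_mem_basicOpen_iff (𝒜 := gr σ A) x (algebraMap A (gr σ A 0) a)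

end str

end Groth.Agent.Hensel.K98.ProjPt
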